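import Mathlib

/-!
Fibre products of a quasi-compact scheme over a qcqs scheme with affine schemes are covered by a
uniformly bounded number of affine opens.
-/

set_option autoImplicit false
set_option backward.isDefEq.respectTransparency false

universe u

open CategoryTheory AlgebraicGeometry

namespace Groth.Agent.AffCoverBound

/-- For `j : W ⟶ Y` with `W` quasi-compact and `Y` qcqs there is `m` such that every pullback of `W`
to an affine scheme over `Y` is covered by `m` affine opens. -/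
theorem exists_uniform_affine_cover {W Y : Scheme.{u}} (j : W ⟶ Y)
    [CompactSpace W] [CompactSpace Y] [QuasiSeparatedSpace Y] :
    ∃ m : ℕ, ∀ (B : CommRingCat.{u}) (g : Spec B ⟶ Y),
      ∃ U : Fin m → (Limits.pullback j g).Opens, (∀ k, IsAffineOpen (U k)) ∧ ⨆ k, U k = ⊤ := by
  classical
  haveI : QuasiCompact j := by
    haveI : QuasiCompact (j ≫ Limits.terminal.from Y) :=
      (HasAffineProperty.iff_of_isAffine (P := @QuasiCompact)).2 ‹CompactSpace W›
    exact MorphismProperty.of_postcomp (W := @QuasiCompact) (W' := @QuasiSeparated) j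
      (Limits.terminal.from Y) (by infer_instance) this
  let 𝒱 := Y.affineCover.finiteSubcover
  haveI : Fintype 𝒱.I₀ := Fintype.ofFinite _
  let V : 𝒱.I₀ → Y.Opens := fun i => (𝒱.f i).opensRange
  have hV : ∀ i, IsAffineOpen (V i) := fun i => isAffineOpen_opensRange (𝒱.f i)
  have key : ∀ i, ∃ s : Finset W.affineOpens, ((j ⁻¹ᵁ V i : W.Opens) : Set W) = ⋃ U ∈ s, ((U : W.Opens) : Set W) := by
    intro i
    obtain ⟨t, ht, he⟩ := (isCompact_and_isOpen_iff_finite_and_eq_biUnion_affineOpens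
      (U := ((j ⁻¹ᵁ V i : W.Opens) : Set W))).1
      ⟨QuasiCompact.isCompact_preimage _ (V i).2 (hV i).isCompact, (j ⁻¹ᵁ V i).2⟩
    exact ⟨ht.toFinset, by simpa using he⟩
  choose s hs using key
  let ι := Σ i, {U : W.affineOpens // U ∈ s i}
  refine ⟨Fintype.card ι, fun B g => ?_⟩
  have hcov : ⨆ i, g ⁻¹ᵁ V i = ⊤ := by
    ext x
    simp only [TopologicalSpace.Opens.coe_iSup, Set.mem_iUnion, TopologicalSpace.Opens.coe_top,
      Set.mem_univ, iff_true]
    obtain ⟨i, y, hy⟩ := 𝒱.exists_eq (g x)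
    exact ⟨i, y, hy⟩
  -- partition of unity subordinate to the cover
  have hI : ∀ i, ∃ I : Ideal B, (g ⁻¹ᵁ V i : (Spec B).Opens).carrier = (PrimeSpectrum.zeroLocus (I : Set B))ᶜ := by
    intro i
    obtain ⟨I, hI⟩ := (PrimeSpectrum.isClosed_iff_zeroLocus_ideal _).1 (g ⁻¹ᵁ V i).2.isClosed_compl
    exact ⟨I, by rw [← hI, compl_compl]⟩
  choose I hI using hI
  have htop : ⨆ i, I i = ⊤ := by
    rw [← PrimeSpectrum.zeroLocus_empty_iff_eq_top, PrimeSpectrum.zeroLocus_iSup,
      Set.eq_empty_iff_forall_notMem]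
    intro x hx
    have : x ∈ ((⨆ i, g ⁻¹ᵁ V i : (Spec B).Opens) : Set (Spec B)) := by rw [hcov]; trivial
    rw [TopologicalSpace.Opens.coe_iSup] at this
    obtain ⟨i, hi⟩ := Set.mem_iUnion.1 this
    change x ∈ (g ⁻¹ᵁ V i : (Spec B).Opens).carrier at hi
    rw [hI] at hi
    exact hi (Set.mem_iInter.1 hx i)
  obtain ⟨f, hfI, hf1⟩ : ∃ f : 𝒱.I₀ → B, (∀ i, f i ∈ I i) ∧ ∑ i, f i = 1 := by
    obtain ⟨f, hf, hs⟩ := (Submodule.mem_iSup_iff_exists_finsupp I (1 : B)).1 (htop ▸ trivial)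
    exact ⟨fun i => f i, hf, by rwa [Finsupp.sum_fintype _ _ (fun _ => rfl)] at hs⟩
  let T : 𝒱.I₀ → (Spec B).Opens := fun i => PrimeSpectrum.basicOpen (f i)
  have hT : ∀ i, IsAffineOpen (T i) := fun i => IsAffineOpen.Spec_basicOpen (f i)
  have hTV : ∀ i, T i ≤ g ⁻¹ᵁ V i := by
    intro i x hx
    show x ∈ (g ⁻¹ᵁ V i : (Spec B).Opens).carrier
    rw [hI]
    exact fun h => hx (h (hfI i))
  have hTcov : ∀ x : PrimeSpectrum B, ∃ i, x ∈ T i := by
    intro x
    by_contra h
    push Not at h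
    refine x.2.ne_top ((Ideal.eq_top_iff_one _).2 (hf1 ▸ Ideal.sum_mem _ fun i _ => ?_))
    exact not_not.1 (h i)
  let e := (Fintype.equivFin ι).symm
  refine ⟨fun k => (Limits.pullback.fst j g ⁻¹ᵁ ((e k).2.1 : W.Opens)) ⊓ (Limits.pullback.snd j g ⁻¹ᵁ T (e k).1),
    fun k => ?_, ?_⟩
  · dsimp only
    generalize e k = p
    obtain ⟨i, U, hU⟩ := p
    have hUV : (U : W.Opens) ≤ j ⁻¹ᵁ V i := fun x hx => by
      show x ∈ ((j ⁻¹ᵁ V i : W.Opens) : Set W)
      rw [hs i]
      exact Set.mem_biUnion hU hx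
    haveI : IsAffine (U : W.Opens).toScheme := U.2
    haveI : IsAffine (T i).toScheme := hT i
    haveI : IsAffine (V i).toScheme := hV i
    let φ := Limits.pullback.map (j.resLE (V i) (U : W.Opens) hUV) (g.resLE (V i) (T i) (hTV i)) j g
      (U : W.Opens).ι (T i).ι (V i).ι (by simp) (by simp)
    haveI : IsAffine (Limits.pullback (j.resLE (V i) (U : W.Opens) hUV) (g.resLE (V i) (T i) (hTV i))) :=
      inferInstance
    haveI : IsOpenImmersion φ := inferInstance
    convert isAffineOpen_opensRange φ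
    apply TopologicalSpace.Opens.ext
    simp [φ, Scheme.Pullback.range_map, Scheme.Opens.range_ι]
  · refine eq_top_iff.2 fun p _ => ?_
    obtain ⟨i, hi⟩ := hTcov (Limits.pullback.snd j g p)
    have hp : Limits.pullback.fst j g p ∈ ((j ⁻¹ᵁ V i : W.Opens) : Set W) := by
      show j (Limits.pullback.fst j g p) ∈ V i
      rw [← Scheme.Hom.comp_apply, Limits.pullback.condition, Scheme.Hom.comp_apply]
      exact hTV i hi
    rw [hs i] at hp
    obtain ⟨U, hU, hpU⟩ := Set.mem_iUnion₂.1 hp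
    refine TopologicalSpace.Opens.mem_iSup.2 ⟨e.symm ⟨i, U, hU⟩, ?_⟩
    dsimp only
    rw [e.apply_symm_apply]
    exact ⟨hpU, hi⟩

end Groth.Agent.AffCoverBound
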